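import Cfsg.Agent.McL.Mult.Check.Rows
import Cfsg.Agent.McL.Mult.Check.Tables
import Cfsg.Agent.McL.Mult.Check.Top0
import Cfsg.Agent.McL.Mult.Check.Top1
import Cfsg.Agent.McL.Mult.Check.Top2
import Cfsg.Agent.McL.Mult.Check.Top3
import Cfsg.Agent.McL.Mult.Check.Top4
import Cfsg.Agent.McL.Mult.Check.Top5
import Cfsg.Agent.McL.Mult.Check.Lower
import Cfsg.Agent.McL.Mult.Check.Basis0
import Cfsg.Agent.McL.Mult.Check.Basis1
import Cfsg.Agent.McL.Mult.Check.Basis2
import Cfsg.Agent.McL.Mult.Check.Vals
import Cfsg.Agent.McL.Mult.Check.ValsMid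
import Cfsg.Agent.McL.Mult.Check.ValsLow

/-! Checks of the multiplier certificate. -/

set_option autoImplicit false
set_option maxHeartbeats 0
set_option maxRecDepth 100000
set_option Elab.async false

namespace Cfsg.Agent.McL.Mult

open Cfsg Cfsg.Agent.Compute Cfsg.Agent.StemCert Cfsg.Agent.LeechModel

theorem shape_ok : cert.D.length = 5 ∧ cert.ord = 3 ∧ numForms cert.D = 898128000 ∧
    cert.md = 898128000 ∧ 0 < cert.ord := by decide +kernel

theorem pvs_ok : ∀ i < cert.D.length, cert.pvOK pvs i = true := fun i hi => by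
  rw [shape_ok.1] at hi
  refine pvOK_of_pvF cert fun s hs => ?_
  interval_cases i
  · rw [show (lvAt cert.D 0).gens = [0, 1, 2, 3, 4, 5] from rfl] at hs
    simp only [List.mem_cons, List.not_mem_nil, or_false] at hs
    rcases hs with rfl | rfl | rfl | rfl | rfl | rfl
    exacts [val0_0, val0_1, val0_2, val0_3, val0_4, val0_5]
  · rw [show (lvAt cert.D 1).gens = [1, 2, 3, 4, 5] from rfl] at hs
    simp only [List.mem_cons, List.not_mem_nil, or_false] at hs
    rcases hs with rfl | rfl | rfl | rfl | rfl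
    exacts [val1_1, val1_2, val1_3, val1_4, val1_5]
  · rw [show (lvAt cert.D 2).gens = [1, 2, 3, 4] from rfl] at hs
    simp only [List.mem_cons, List.not_mem_nil, or_false] at hs
    rcases hs with rfl | rfl | rfl | rfl
    exacts [val2_1, val2_2, val2_3, val2_4]
  · rw [show (lvAt cert.D 3).gens = [1, 2, 3] from rfl] at hs
    simp only [List.mem_cons, List.not_mem_nil, or_false] at hs
    rcases hs with rfl | rfl | rfl
    exacts [val3_1, val3_2, val3_3]
  · rw [show (lvAt cert.D 4).gens = [1] from rfl] at hs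
    simp only [List.mem_cons, List.not_mem_nil, or_false] at hs
    subst hs
    exact val4_1

theorem lv0_ok : cert.lvOK 0 = true := by
  refine lvOK_of_entM cert (by rw [shape_ok.2.2.2.1]; norm_num) hw_ok small_ok wf_ok rel_ok pvs_ok
    (by rw [shape_ok.1]; norm_num) fun s hs j hj => ?_
  rw [show (lvAt cert.D 0).gens = [0, 1, 2, 3, 4, 5] from rfl] at hs
  rw [show (lvAt cert.D 0).size = 275 from rfl] at hj
  simp only [List.mem_cons, List.not_mem_nil, or_false] at hs
  rcases hs with rfl | rfl | rfl | rfl | rfl | rfl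
  · exact (Nat.lt_or_ge j 92).elim (fun h => allFrom_spec ent0_0_0 (Nat.zero_le j) h) fun h92 => (Nat.lt_or_ge j 183).elim (fun h => allFrom_spec ent0_0_92 (h92) h) fun h183 => allFrom_spec ent0_0_183 (h183) hj
  · exact (Nat.lt_or_ge j 92).elim (fun h => allFrom_spec ent0_1_0 (Nat.zero_le j) h) fun h92 => (Nat.lt_or_ge j 183).elim (fun h => allFrom_spec ent0_1_92 (h92) h) fun h183 => allFrom_spec ent0_1_183 (h183) hj
  · exact (Nat.lt_or_ge j 92).elim (fun h => allFrom_spec ent0_2_0 (Nat.zero_le j) h) fun h92 => (Nat.lt_or_ge j 183).elim (fun h => allFrom_spec ent0_2_92 (h92) h) fun h183 => allFrom_spec ent0_2_183 (h183) hj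
  · exact (Nat.lt_or_ge j 92).elim (fun h => allFrom_spec ent0_3_0 (Nat.zero_le j) h) fun h92 => (Nat.lt_or_ge j 183).elim (fun h => allFrom_spec ent0_3_92 (h92) h) fun h183 => allFrom_spec ent0_3_183 (h183) hj
  · exact (Nat.lt_or_ge j 92).elim (fun h => allFrom_spec ent0_4_0 (Nat.zero_le j) h) fun h92 => (Nat.lt_or_ge j 183).elim (fun h => allFrom_spec ent0_4_92 (h92) h) fun h183 => allFrom_spec ent0_4_183 (h183) hj
  · exact (Nat.lt_or_ge j 92).elim (fun h => allFrom_spec ent0_5_0 (Nat.zero_le j) h) fun h92 => (Nat.lt_or_ge j 183).elim (fun h => allFrom_spec ent0_5_92 (h92) h) fun h183 => allFrom_spec ent0_5_183 (h183) hj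

theorem lv1_ok : cert.lvOK 1 = true := by
  refine lvOK_of_entM cert (by rw [shape_ok.2.2.2.1]; norm_num) hw_ok small_ok wf_ok rel_ok pvs_ok
    (by rw [shape_ok.1]; norm_num) fun s hs j hj => ?_
  rw [show (lvAt cert.D 1).gens = [1, 2, 3, 4, 5] from rfl] at hs
  rw [show (lvAt cert.D 1).size = 162 from rfl] at hj
  simp only [List.mem_cons, List.not_mem_nil, or_false] at hs
  rcases hs with rfl | rfl | rfl | rfl | rfl
  · exact (Nat.lt_or_ge j 81).elim (fun h => allFrom_spec ent1_1_0 (Nat.zero_le j) h) fun h81 => allFrom_spec ent1_1_81 (h81) hj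
  · exact (Nat.lt_or_ge j 81).elim (fun h => allFrom_spec ent1_2_0 (Nat.zero_le j) h) fun h81 => allFrom_spec ent1_2_81 (h81) hj
  · exact (Nat.lt_or_ge j 81).elim (fun h => allFrom_spec ent1_3_0 (Nat.zero_le j) h) fun h81 => allFrom_spec ent1_3_81 (h81) hj
  · exact (Nat.lt_or_ge j 81).elim (fun h => allFrom_spec ent1_4_0 (Nat.zero_le j) h) fun h81 => allFrom_spec ent1_4_81 (h81) hj
  · exact (Nat.lt_or_ge j 81).elim (fun h => allFrom_spec ent1_5_0 (Nat.zero_le j) h) fun h81 => allFrom_spec ent1_5_81 (h81) hj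

theorem lv2_ok : cert.lvOK 2 = true := by
  refine lvOK_of_entM cert (by rw [shape_ok.2.2.2.1]; norm_num) hw_ok small_ok wf_ok rel_ok pvs_ok
    (by rw [shape_ok.1]; norm_num) fun s hs j hj => ?_
  rw [show (lvAt cert.D 2).gens = [1, 2, 3, 4] from rfl] at hs
  rw [show (lvAt cert.D 2).size = 105 from rfl] at hj
  simp only [List.mem_cons, List.not_mem_nil, or_false] at hs
  rcases hs with rfl | rfl | rfl | rfl
  · exact allFrom_spec ent2_1_0 (Nat.zero_le j) hj
  · exact allFrom_spec ent2_2_0 (Nat.zero_le j) hj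
  · exact allFrom_spec ent2_3_0 (Nat.zero_le j) hj
  · exact allFrom_spec ent2_4_0 (Nat.zero_le j) hj

theorem lv3_ok : cert.lvOK 3 = true := by
  refine lvOK_of_entM cert (by rw [shape_ok.2.2.2.1]; norm_num) hw_ok small_ok wf_ok rel_ok pvs_ok
    (by rw [shape_ok.1]; norm_num) fun s hs j hj => ?_
  rw [show (lvAt cert.D 3).gens = [1, 2, 3] from rfl] at hs
  rw [show (lvAt cert.D 3).size = 64 from rfl] at hj
  simp only [List.mem_cons, List.not_mem_nil, or_false] at hs
  rcases hs with rfl | rfl | rfl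
  · exact allFrom_spec ent3_1_0 (Nat.zero_le j) hj
  · exact allFrom_spec ent3_2_0 (Nat.zero_le j) hj
  · exact allFrom_spec ent3_3_0 (Nat.zero_le j) hj

theorem lv4_ok : cert.lvOK 4 = true := by
  refine lvOK_of_entM cert (by rw [shape_ok.2.2.2.1]; norm_num) hw_ok small_ok wf_ok rel_ok pvs_ok
    (by rw [shape_ok.1]; norm_num) fun s hs j hj => ?_
  rw [show (lvAt cert.D 4).gens = [1] from rfl] at hs
  rw [show (lvAt cert.D 4).size = 3 from rfl] at hj
  simp only [List.mem_cons, List.not_mem_nil, or_false] at hs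
  subst hs
  · exact allFrom_spec ent4_1_0 (Nat.zero_le j) hj

theorem basis_all : ∀ j < cert.dim, cert.basisM rowVals j = true := fun j hj => by
  rw [Nat.eq_of_beq_eq_true dim_eq] at hj
  rcases Nat.lt_or_ge j 40 with h | h
  · exact allFrom_spec basis0_ok (Nat.zero_le j) h
  rcases Nat.lt_or_ge j 80 with h' | h'
  · exact allFrom_spec basis1_ok h h'
  exact allFrom_spec basis2_ok h' hj

theorem row_sound : RowSound cert (cert.rowW 20 pvs) :=
  rowW_sound cert (by rw [shape_ok.2.2.2.1]; norm_num) hw_ok small_ok wf_ok pvs_ok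

theorem checked : cert.Checked 6 where
  wf := wf_ok
  top := top_ok
  rel := rel_ok
  pow := pow_ok
  comm := commData_ok
  lv := fun i hi => by
    rw [shape_ok.1] at hi
    interval_cases i
    exacts [lv0_ok, lv1_ok, lv2_ok, lv3_ok, lv4_ok]
  row := row_ok
  basis := allBelow_eq_true.mpr fun j hj =>
    basisOK_of_basisM cert bound_ok row_sound rows_ok (basis_all j hj)
  order := ordOK_of_ordM cert bound_ok row_sound rows_ok ordP_ok
  piv_lt := shape_ok.2.2.2.2

/-- The generators of the certificate. -/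
noncomputable def g (s : ℕ) : ↥Spor.McL := evalW gen (words.getD s [])

theorem g_coded : Coded (w := 9) (k := 6) ι g codes := coded_of_wordsB coded words_ok

/-- The bound. -/
theorem bound {Γ : Type} [Group Γ] [Finite Γ] (σ : Γ →* ↥Spor.McL) (hσ : Cfsg.IsStemExtension σ) :
    ∃ π : Multiplicative (ZMod 3) →* σ.ker, Function.Surjective π := by
  have hlt : ∀ b ∈ base, b < 275 := fun b hb => by simpa [Nat.blt_eq] using allB_spec blt_ok b hb
  have hcard : numForms cert.D = Nat.card ↥Spor.McL := by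
    rw [shape_ok.2.2.1, card_mcl]
  have hbase := isBase_of_card g_coded wf_ok below_ok hlt distinct_ok hcard
  have := kernel_image g checked
    (tableOK_of_check g_coded hbase wf_ok below_ok fun i hi => by
      rw [shape_ok.1] at hi
      interval_cases i
      exacts [table0, table1, table2, table3, table4])
    (faithful_of_distinct g_coded wf_ok below_ok hlt distinct_ok)
    (generates_of_card g_coded wf_ok below_ok hlt distinct_ok hcard)
    (commProd_of_check g_coded hbase pow_ok below_ok commData_ok comm_ok)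
    (by rw [shape_ok.2.2.2.1, card_mcl]) σ hσ
  rwa [shape_ok.2.1] at this



end Cfsg.Agent.McL.Mult
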