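import Cfsg.Prelude.Def_KGroupFacts
import Cfsg.Agent.LeechModel.Glue
import Cfsg.Agent.LeechModel.Induced
import Cfsg.Agent.McL.Model
import Cfsg.Agent.McL.Mult.CoverData

/-!
A triple cover of the group induced from one of a point stabiliser on 378 points.
-/

set_option autoImplicit false
set_option maxRecDepth 100000
set_option maxHeartbeats 0
set_option Elab.async false

namespace Cfsg.Agent.McL.Cover

open Cfsg Cfsg.Agent.Compute Cfsg.Agent.StemCert Cfsg.Agent.LeechModel

theorem allB_tail {α : Type} {f : α → Bool} {a : α} {l : List α} (h : allB f (a :: l) = true) :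
    allB f l = true := by
  have h' : (f a && allB f l) = true := h
  exact (Bool.and_eq_true _ _ ▸ h').2

/-- Permutations of all the points. -/
noncomputable abbrev repAll : Rep (Equiv.Perm (Fin (275 + 378))) (Fin (275 + 378)) :=
  permRep 10 (275 + 378) (Equiv.refl _) (by norm_num) (by norm_num)

/-- Permutations of the fibre points. -/
noncomputable abbrev repFib : Rep (Equiv.Perm (Fin 378)) (Fin 378) :=
  permRep 10 378 (Equiv.refl _) (by norm_num) (by norm_num)

/-- The codes below, completed by the identity. -/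
noncomputable def lowCodes : List ℕ :=
  (List.range 5).map (fun t => Model.codes.getD (subGens.getD t 0) 0) ++ [idCode 9 275]

theorem glue_ok : allBelow 6 (fun s => glueB 10 9 10 275 378 (coverCodes.getD s 0)
    (lowCodes.getD s 0) (fibreCodes.getD s 0)) = true := by decide +kernel

theorem top_ok : coverCodes.length = 6 ∧ coverCodes = topGens coverChain ∧
    coverChain = [coverChain0, coverChain1, coverChain2, coverChain3, coverChain4] ∧
    chainSize coverChain = 3 * 3265920 ∧ subGens.length = 5 ∧ allB (fun t => Nat.blt t 6) subGens = true := by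
  refine ⟨?_, ?_, rfl, ?_, ?_, ?_⟩ <;> decide +kernel

theorem level4 : repAll.checkLevel coverChain4 [] = true := by decide +kernel

theorem level3 : repAll.checkLevel coverChain3 [coverChain4] = true := by decide +kernel

theorem level2 : repAll.checkLevel coverChain2 [coverChain3, coverChain4] = true := by decide +kernel

theorem level1 : repAll.checkLevel coverChain1 [coverChain2, coverChain3, coverChain4] = true := by
  decide +kernel

theorem level0 :
    repAll.checkLevel coverChain0 [coverChain1, coverChain2, coverChain3, coverChain4] = true := by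
  decide +kernel

theorem chain_ok : repAll.checkChain coverChain = true := by
  rw [top_ok.2.2.1]
  simp only [Rep.checkChain_cons, level0, level1, level2, level3, level4, Bool.true_and]
  rfl

/-- The element below a generator. -/
noncomputable def lowGen (t : ℕ) : ↥Spor.McL := if t < 5 then gen (subGens.getD t 0) else 1

/-- A generator of the cover of the point stabiliser. -/
noncomputable def pairGen (t : ℕ) : Equiv.Perm (Fin 275) × Equiv.Perm (Fin 378) :=
  (ι (lowGen t), repFib.den (fibreCodes.getD t 0))

/-- The cover of the point stabiliser. -/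
noncomputable def subCover : Subgroup (Equiv.Perm (Fin 275) × Equiv.Perm (Fin 378)) :=
  Subgroup.closure (pairGen '' {t | t < 6})

theorem subGens_lt {t : ℕ} (ht : t < 5) : subGens.getD t 0 < 6 := by
  have h := top_ok.2.2.2.2.1
  rw [List.getD_eq_getElem _ _ (h.symm ▸ ht)]
  exact Nat.blt_eq.mp (allB_spec top_ok.2.2.2.2.2 _ (List.getElem_mem _))

theorem low_coded {t : ℕ} (ht : t < 6) (x : Fin 275) :
    (ι (lowGen t) x : ℕ) = getField 9 (lowCodes.getD t 0) x := by
  have hlen : ((List.range 5).map (fun t => Model.codes.getD (subGens.getD t 0) 0)).length = 5 := by simp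
  by_cases h : t < 5
  · rw [lowGen, if_pos h, lowCodes, List.getD_append _ _ _ _ (hlen.symm ▸ h)]
    have e : ((List.range 5).map (fun t => Model.codes.getD (subGens.getD t 0) 0)).getD t 0 =
        Model.codes.getD (subGens.getD t 0) 0 := by interval_cases t <;> rfl
    rw [e]
    exact coded _ (subGens_lt h) x
  · obtain rfl : t = 5 := by omega
    rw [lowGen, if_neg (lt_irrefl 5), map_one, lowCodes,
      List.getD_append_right _ _ _ _ (by rw [hlen]), hlen]
    exact (getField_idCode (by norm_num) x.2).symm

theorem card_subCover : Nat.card subCover = 3 * 3265920 := by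
  rw [← top_ok.2.2.2.1]
  exact card_closure_pairs (w := 10) (v := 9) (σ := fun t => ι (lowGen t)) (as := lowCodes)
    (by norm_num) (by norm_num) (by norm_num) (by norm_num) (fun s hs x => low_coded hs x)
    glue_ok top_ok.1 top_ok.2.1 chain_ok

theorem fst_le : ((MonoidHom.fst _ _).comp subCover.subtype).range ≤ ι.range := by
  rw [MonoidHom.range_comp, Subgroup.range_subtype, subCover, MonoidHom.map_closure, Set.image_image,
    Subgroup.closure_le]
  rintro _ ⟨t, -, rfl⟩
  exact ⟨_, rfl⟩

/-- The projection of the cover of the point stabiliser. -/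
noncomputable def pSub : subCover →* ↥Spor.McL :=
  ((MonoidHom.ofInjective ι_injective).symm.toMonoidHom).comp
    ((Subgroup.inclusion fst_le).comp ((MonoidHom.fst _ _).comp subCover.subtype).rangeRestrict)

theorem ι_pSub (x : subCover) : ι (pSub x) = x.1.1 :=
  congrArg Subtype.val ((MonoidHom.ofInjective ι_injective).apply_symm_apply _)

/-- A lifted generator of the stabiliser. -/
noncomputable def liftGen (t : ℕ) : subCover :=
  if ht : t < 6 then ⟨pairGen t, Subgroup.subset_closure ⟨t, ht, rfl⟩⟩ else 1

theorem pSub_liftGen {t : ℕ} (ht : t < 6) : pSub (liftGen t) = lowGen t :=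
  ι_injective (by rw [ι_pSub, liftGen, dif_pos ht]; rfl)

/-- The action on the fibre. -/
noncomputable def fibre : subCover →* Equiv.Perm (Fin 378) :=
  (MonoidHom.snd _ _).comp subCover.subtype

theorem coded_fibre : Coded (w := 10) (k := 6) fibre liftGen fibreCodes := by
  intro s hs y
  have h := allBelow_eq_true.mp glue_ok s hs
  simp only [glueB, Bool.and_eq_true] at h
  show (((liftGen s : subCover) : Equiv.Perm (Fin 275) × Equiv.Perm (Fin 378)).2 y : ℕ) = _
  rw [liftGen, dif_pos hs]
  exact congrArg Fin.val (denPerm_apply (Equiv.refl (Fin 378)) (codePerm_of_check h.1.1.2) y)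

theorem central_ok : allBelow 6 (fun t => allBelow 378 fun i =>
      Nat.beq (appW 10 fibreCodes [5, t] i) (appW 10 fibreCodes [t, 5] i)) = true ∧
    allBelow 378 (fun i => Nat.beq (appW 10 fibreCodes [5, 5, 5] i) i &&
      !(Nat.beq (appW 10 fibreCodes [5] i) i)) = true := by
  refine ⟨?_, ?_⟩ <;> decide +kernel

theorem pSub_z : pSub (liftGen 5) = 1 := by
  rw [pSub_liftGen (by norm_num), lowGen, if_neg (lt_irrefl 5)]

theorem ext_kernel {x y : subCover} (hp : pSub x = pSub y)
    (hf : ∀ i, fibre x i = fibre y i) : x = y := by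
  refine Subtype.ext (Prod.ext ?_ (Equiv.ext hf))
  rw [← ι_pSub, ← ι_pSub, hp]

theorem z_facts : liftGen 5 ^ 3 = 1 ∧ orderOf (liftGen 5) = 3 ∧
    liftGen 5 ∈ Subgroup.center subCover := by
  have hz : ∀ i : Fin 378, fibre (liftGen 5) i ≠ i := fun i h => by
    have h' := allBelow_eq_true.mp central_ok.2 i i.2
    simp only [Bool.and_eq_true, Bool.not_eq_true'] at h'
    have e := appW_spec coded_fibre [5] (by simp) i
    rw [show evalW liftGen [5] = liftGen 5 by simp [evalW], h] at e
    have h2 := h'.2
    rw [← Bool.not_eq_true, Nat.beq_eq] at h2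
    exact h2 e.symm
  have h3 : liftGen 5 ^ 3 = 1 := by
    refine ext_kernel (by rw [map_pow, pSub_z, one_pow, map_one]) fun i => Fin.ext ?_
    have h' := allBelow_eq_true.mp central_ok.2 i i.2
    simp only [Bool.and_eq_true, Nat.beq_eq] at h'
    have e := appW_spec coded_fibre [5, 5, 5] (by simp) i
    rw [show evalW liftGen [5, 5, 5] = liftGen 5 ^ 3 by simp [evalW, pow_succ, mul_assoc]] at e
    rw [e, h'.1, map_one]
    rfl
  have := Fact.mk Nat.prime_three
  refine ⟨h3, orderOf_eq_prime h3 fun h => hz 0 (by rw [h, map_one]; rfl), ?_⟩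
  rw [Subgroup.mem_center_iff]
  rintro ⟨x, hx⟩
  refine Subgroup.closure_induction
    (p := fun x hx => (⟨x, hx⟩ : subCover) * liftGen 5 = liftGen 5 * ⟨x, hx⟩) ?_ (by
      show (1 : subCover) * _ = _ * 1
      simp) (fun a b ha hb h h' => Commute.mul_left (show Commute (⟨a, ha⟩ : subCover) _ from h) h')
    (fun a ha h => Commute.inv_left (show Commute (⟨a, ha⟩ : subCover) _ from h)) hx
  rintro _ ⟨t, ht, rfl⟩
  have e : liftGen t = ⟨pairGen t, Subgroup.subset_closure ⟨t, ht, rfl⟩⟩ := by
    rw [liftGen, dif_pos (show t < 6 from ht)]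
  rw [← e]
  refine ext_kernel (by rw [map_mul, map_mul, pSub_z, mul_one, one_mul]) fun i => Fin.ext ?_
  have e1 := appW_spec coded_fibre [t, 5] (by simpa using ht) i
  have e2 := appW_spec coded_fibre [5, t] (by simpa using ht) i
  simp only [evalW, List.map_cons, List.map_nil, List.prod_cons, List.prod_nil, mul_one] at e1 e2
  rw [e1, e2]
  exact (Nat.eq_of_beq_eq_true (allBelow_eq_true.mp (allBelow_eq_true.mp central_ok.1 t ht) i i.2)).symm

theorem tail_ok : wfB Model.levels.tail = true ∧ gensBelow 6 Model.levels.tail = true ∧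
    distinctB 9 Model.codes Model.levels.tail Model.base.tail = true ∧
    numForms Model.levels.tail = 3265920 ∧
    allB (fun L => allB (fun s => memB s subGens) L.gens) Model.levels.tail = true := by
  refine ⟨?_, ?_, ?_, ?_, ?_⟩ <;> decide +kernel

theorem ker_pSub : Nat.card pSub.ker = 3 ∧ pSub.ker = Subgroup.zpowers (liftGen 5) := by
  classical
  obtain ⟨hw, hg, hd, hn, hs⟩ := tail_ok
  have hlow : ∀ {x : List ℕ}, Valid Model.levels.tail x →
      nf gen Lv.word Model.levels.tail x ∈ pSub.range := by
    have key : ∀ (Ls : List Lv), wfB Ls = true →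
        allB (fun L => allB (fun s => memB s subGens) L.gens) Ls = true → ∀ x, Valid Ls x →
        nf gen Lv.word Ls x ∈ pSub.range := by
      intro Ls
      induction Ls with
      | nil => exact fun _ _ _ _ => one_mem _
      | cons L Ls ih =>
        rintro hw hs x ⟨j, r, rfl, hj, hr⟩
        obtain ⟨-, -, hword, -, hw'⟩ := wfB_cons hw
        simp only [nf, List.headD_cons, List.tail_cons]
        refine mul_mem (list_prod_mem fun y hy => ?_)
          (ih hw' (allB_tail hs) r hr)
        obtain ⟨s, hs', rfl⟩ := List.mem_map.mp hy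
        obtain ⟨t, ht, rfl⟩ := List.getElem_of_mem
          (memB_eq_true.mp (allB_spec (allB_spec hs L (by simp)) s (hword j hj s hs')))
        have ht5 : t < 5 := top_ok.2.2.2.2.1 ▸ ht
        exact ⟨liftGen t, by
          rw [pSub_liftGen (by omega), lowGen, if_pos ht5, List.getD_eq_getElem _ _ ht]⟩
    exact fun {x} hx => key _ hw hs x hx
  have hinj := nf_injective_of_check coded hw hg
    (fun b hb => base_lt b (List.mem_of_mem_tail hb)) hd
  have hle : 3265920 ≤ Nat.card pSub.range := by
    rw [← hn, ← card_forms, ← Nat.card_eq_finsetCard]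
    exact Nat.card_le_card_of_injective (fun x => ⟨_, hlow (valid_of_mem_forms x.2)⟩) fun x y e =>
      Subtype.ext (hinj _ _ (valid_of_mem_forms x.2) (valid_of_mem_forms y.2) (congrArg Subtype.val e))
  have hz : Subgroup.zpowers (liftGen 5) ≤ pSub.ker := Subgroup.zpowers_le.mpr pSub_z
  have h := Subgroup.card_mul_index pSub.ker
  rw [Subgroup.index_ker, card_subCover] at h
  have h3 : Nat.card pSub.ker ≤ 3 := by
    by_contra hlt
    have : 4 * 3265920 ≤ Nat.card pSub.ker * Nat.card pSub.range := Nat.mul_le_mul (by omega) hle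
    omega
  have he := Subgroup.eq_of_le_of_card_ge hz (by rw [Nat.card_zpowers, z_facts.2.1]; exact h3)
  exact ⟨by rw [← he, Nat.card_zpowers, z_facts.2.1], he.symm⟩

/-- The point of an index. -/
noncomputable def orbPt (j : ℕ) : ℕ := appW 9 Model.codes (repWords.getD j []) 0

/-- The entry of the table. -/
noncomputable def tblAt (s j : ℕ) : ℕ × List ℕ := (indTable.getD s []).getD j (0, [])

theorem table_ok : repWords.length = 275 ∧ ((List.range 275).map orbPt).Nodup ∧
    allBelow 275 (fun j => allB (fun s => Nat.blt s 6) (repWords.getD j [])) = true ∧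
    allBelow 6 (fun s => allBelow 275 fun j =>
      Nat.blt (tblAt s j).1 275 && allB (fun t => Nat.blt t 5) (tblAt s j).2 &&
        eqOn 9 Model.codes Model.base (s :: repWords.getD j [])
          (repWords.getD (tblAt s j).1 [] ++ (tblAt s j).2.map fun t => subGens.getD t 0)) = true ∧
    allBelow 5 (fun t => Nat.beq (getField 9 (Model.codes.getD (subGens.getD t 0) 0) 0) 0) = true := by
  refine ⟨?_, ?_, ?_, ?_, ?_⟩ <;> decide +kernel

theorem rep_lt (j : Fin 275) : ∀ s ∈ repWords.getD j [], s < 6 := fun s hs =>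
  Nat.blt_eq.mp (allB_spec (allBelow_eq_true.mp table_ok.2.2.1 j j.2) s hs)

/-- A representative. -/
noncomputable def rep (j : Fin 275) : ↥Spor.McL := evalW gen (repWords.getD j [])

/-- The numbering of the orbit. -/
noncomputable def orbEquiv : Fin 275 ≃ Fin 275 :=
  Equiv.ofBijective (fun j => ι (rep j) 0) (Finite.injective_iff_bijective.mp fun i j h => by
    have hnd := table_ok.2.1
    have hlen : ∀ a : Fin 275, (a : ℕ) < ((List.range 275).map orbPt).length := fun a => by simp
    refine Fin.ext ((hnd.getElem_inj_iff (hi := hlen i) (hj := hlen j)).mp ?_)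
    simp only [List.getElem_map, List.getElem_range, orbPt]
    show appW 9 Model.codes _ ((0 : Fin 275) : ℕ) = appW 9 Model.codes _ ((0 : Fin 275) : ℕ)
    rw [← appW_spec coded _ (rep_lt i) 0, ← appW_spec coded _ (rep_lt j) 0]
    exact congrArg Fin.val h)

/-- The action on the indices. -/
noncomputable def act : ↥Spor.McL →* Equiv.Perm (Fin 275) :=
  orbEquiv.symm.permCongrHom.toMonoidHom.comp ι

theorem act_apply (g : ↥Spor.McL) (j : Fin 275) : act g j = orbEquiv.symm (ι g (orbEquiv j)) := rfl

theorem pSub_lifts (l : List ℕ) (hl : ∀ t ∈ l, t < 5) :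
    pSub (evalW liftGen l) = evalW gen (l.map fun t => subGens.getD t 0) := by
  rw [map_evalW]
  unfold evalW
  rw [List.map_map]
  refine congrArg List.prod (List.map_congr_left fun t ht => ?_)
  simp only [Function.comp_apply]
  rw [pSub_liftGen (Nat.lt_succ_of_lt (hl t ht)), lowGen, if_pos (hl t ht)]

theorem step {s : ℕ} (hs : s < 6) (j : Fin 275) : ∃ h : (tblAt s j).1 < 275,
    (∀ t ∈ (tblAt s j).2, t < 5) ∧
    rep ⟨(tblAt s j).1, h⟩ * pSub (evalW liftGen (tblAt s j).2) = gen s * rep j ∧
    act (gen s) j = ⟨(tblAt s j).1, h⟩ := by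
  have h' := allBelow_eq_true.mp (allBelow_eq_true.mp table_ok.2.2.2.1 s hs) j j.2
  simp only [Bool.and_eq_true, Nat.blt_eq] at h'
  obtain ⟨⟨hlt, ht⟩, he⟩ := h'
  have ht5 : ∀ t ∈ (tblAt s j).2, t < 5 := fun t h => Nat.blt_eq.mp (allB_spec ht t h)
  have hm : ∀ a ∈ (tblAt s j).2.map (fun t => subGens.getD t 0), a < 6 := fun a ha => by
    obtain ⟨t, ht', rfl⟩ := List.mem_map.mp ha
    exact subGens_lt (ht5 t ht')
  have e := eq_of_eqOn coded base_isBase (a := s :: repWords.getD j [])
    (b := repWords.getD (tblAt s j).1 [] ++ (tblAt s j).2.map fun t => subGens.getD t 0)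
    (fun a ha => (List.mem_cons.mp ha).elim (fun h => h ▸ hs) (rep_lt j a))
    (fun a ha => (List.mem_append.mp ha).elim (rep_lt ⟨_, hlt⟩ a) (hm a)) he
  rw [evalW_cons, evalW_append, ← pSub_lifts _ ht5] at e
  refine ⟨hlt, ht5, e.symm, ?_⟩
  rw [act_apply, Equiv.symm_apply_eq]
  show ι (gen s) (ι (rep j) 0) = ι (rep ⟨_, hlt⟩) 0
  rw [← Equiv.Perm.mul_apply, ← map_mul, show gen s * rep j = _ from e, map_mul, Equiv.Perm.mul_apply]
  congr 1
  rw [pSub_lifts _ ht5]
  clear e he hm
  revert ht ht5
  generalize (tblAt s j).2 = l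
  intro ht ht5
  induction l with
  | nil => rw [List.map_nil, show evalW gen [] = 1 from rfl, map_one]; rfl
  | cons t l ih =>
    rw [List.map_cons, evalW_cons, map_mul, Equiv.Perm.mul_apply,
      ih (allB_tail ht) fun a ha => ht5 a (List.mem_cons_of_mem _ ha)]
    apply Fin.ext
    have := allBelow_eq_true.mp table_ok.2.2.2.2 t (ht5 t (by simp))
    rw [coded _ (subGens_lt (ht5 t (by simp))) 0]
    exact Nat.eq_of_beq_eq_true this

/-- The induced generators. -/
noncomputable def indCoord (s : ℕ) (q : Fin 275) : subCover :=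
  evalW liftGen (tblAt s ((act (gen s))⁻¹ q : Fin 275)).2

/-- A lifted generator of the group. -/
noncomputable def bigGen (s : ℕ) : indGroup act rep pSub :=
  if hs : s < 6 then
    ⟨⟨indCoord s, gen s⟩, fun q => by
      obtain ⟨hlt, -, he, ha⟩ := step hs ((act (gen s))⁻¹ q)
      rw [← Equiv.Perm.mul_apply, mul_inv_cancel, Equiv.Perm.one_apply] at ha
      show rep q * pSub (indCoord s q) = gen s * rep ((act (gen s))⁻¹ q)
      rw [← he, ← ha]
      rfl⟩
  else 1

theorem indProj_bigGen {s : ℕ} (hs : s < 6) : indProj (bigGen s) = gen s := by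
  rw [bigGen, dif_pos hs]; rfl

theorem indProj_word (w : List ℕ) (hw : ∀ s ∈ w, s < 6) :
    indProj (evalW bigGen w) = evalW gen w := by
  rw [map_evalW]
  exact congrArg List.prod (List.map_congr_left fun s hs => indProj_bigGen (hw s hs))

/-- Follow one fibre point along a word. -/
noncomputable def track (w : List ℕ) (j : ℕ) : ℕ × ℕ :=
  List.rec (motive := fun _ => ℕ × ℕ) (j, 0)
    (fun s _ r => ((tblAt s r.1).1, appW 10 fibreCodes (tblAt s r.1).2 r.2)) w

theorem track_spec : ∀ (w : List ℕ), (∀ s ∈ w, s < 6) → ∀ j : Fin 275,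
    (act (evalW gen w) j : ℕ) = (track w j).1 ∧
      (fibre ((evalW bigGen w).1.left (act (evalW gen w) j)) 0 : ℕ) = (track w j).2
  | [], _, j => by
    rw [show evalW gen [] = 1 from rfl, show evalW bigGen [] = 1 from rfl, map_one]
    exact ⟨rfl, rfl⟩
  | s :: w, hw, j => by
    have hs : s < 6 := hw s (by simp)
    obtain ⟨ih1, ih2⟩ := track_spec w (fun a ha => hw a (List.mem_cons_of_mem _ ha)) j
    obtain ⟨hlt, ht5, -, ha⟩ := step hs (act (evalW gen w) j)
    have hq : act (evalW gen (s :: w)) j = act (gen s) (act (evalW gen w) j) := by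
      rw [evalW_cons, map_mul, Equiv.Perm.mul_apply]
    constructor
    · rw [hq, ha]
      show (tblAt s (act (evalW gen w) j : Fin 275)).1 = (tblAt s (track w j).1).1
      rw [ih1]
    · show _ = appW 10 fibreCodes (tblAt s (track w j).1).2 (track w j).2
      rw [← ih1, ← ih2, hq, evalW_cons, Subgroup.coe_mul, SemidirectProduct.mul_left, Pi.mul_apply,
        indAct_apply,
        show (bigGen s).1.right = gen s from indProj_bigGen hs]
      rw [← Equiv.Perm.mul_apply ((act (gen s))⁻¹), inv_mul_cancel, Equiv.Perm.one_apply, map_mul,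
        Equiv.Perm.mul_apply, ← appW_spec coded_fibre _ (fun t ht => Nat.lt_succ_of_lt (ht5 t ht))]
      congr 2
      rw [bigGen, dif_pos hs]
      show fibre (indCoord s _) = _
      rw [indCoord, ← Equiv.Perm.mul_apply, inv_mul_cancel, Equiv.Perm.one_apply]

/-- The exponent of the kernel at an index. -/
noncomputable def kAt (j : ℕ) : ℕ :=
  let a := Nat.mod (track (wordA ++ wordB) j).2 3
  let b := Nat.mod (track (wordB ++ wordA) j).2 3
  Nat.mod (Nat.sub (Nat.add a 3) b) 3

theorem witness_ok : allB (fun s => Nat.blt s 6) (wordA ++ wordB) = true ∧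
    eqOn 9 Model.codes Model.base (wordA ++ wordB) (wordB ++ wordA) = true ∧
    allBelow 275 (fun j => Nat.beq (appW 10 fibreCodes (List.replicate (kAt j) 5)
      (track (wordB ++ wordA) j).2) (track (wordA ++ wordB) j).2) = true ∧
    ((List.range 275).map kAt).sum % 3 ≠ 0 := by
  refine ⟨?_, ?_, ?_, ?_⟩ <;> decide +kernel

/-- The triple cover. -/
theorem exists_stem : ∃ (Γ : Type) (_ : Group Γ) (_ : Finite Γ) (σ : Γ →* ↥Spor.McL),
    Cfsg.IsStemExtension σ ∧ Nonempty (σ.ker ≃* Multiplicative (ZMod 3)) := by
  classical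
  have := Fact.mk Nat.prime_three
  have hcen : pSub.ker ≤ Subgroup.center subCover := by
    rw [ker_pSub.2, Subgroup.zpowers_le]; exact z_facts.2.2
  have hlift : ∀ g : ↥Spor.McL, ∀ q, ∃ e : subCover, rep q * pSub e = g * rep ((act g)⁻¹ q) := by
    intro g
    suffices h : ∃ x : indGroup act rep pSub, indProj x = g by
      obtain ⟨x, rfl⟩ := h
      exact fun q => ⟨x.1.left q, x.2 q⟩
    induction generated g using Submonoid.closure_induction with
    | mem y hy => obtain ⟨s, hs, rfl⟩ := hy; exact ⟨bigGen s, indProj_bigGen hs⟩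
    | one => exact ⟨1, map_one _⟩
    | mul a b _ _ ha hb =>
      obtain ⟨x, rfl⟩ := ha
      obtain ⟨y, rfl⟩ := hb
      exact ⟨x * y, map_mul _ _ _⟩
  obtain ⟨hlt, hcomm, hk, hsum⟩ := witness_ok
  have hab : ∀ s ∈ wordA ++ wordB, s < 6 := fun s hs => Nat.blt_eq.mp (allB_spec hlt s hs)
  have hba : ∀ s ∈ wordB ++ wordA, s < 6 := fun s hs => hab s (by
    simp only [List.mem_append] at hs ⊢; exact hs.symm)
  have ha : ∀ s ∈ wordA, s < 6 := fun s hs => hab s (List.mem_append_left _ hs)
  have hb : ∀ s ∈ wordB, s < 6 := fun s hs => hab s (List.mem_append_right _ hs)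
  have hg : evalW gen (wordA ++ wordB) = evalW gen (wordB ++ wordA) :=
    eq_of_eqOn coded base_isBase hab hba hcomm
  obtain ⟨Γ, i1, i2, σ, hst, hcard⟩ := exists_induced_extension (act := act) (r := rep) (p := pSub)
    (ℓ := 3) hlift hcen ker_pSub.1 (evalW bigGen wordA) (evalW bigGen wordB)
    (by rw [indProj_word _ ha, indProj_word _ hb, ← evalW_append, ← evalW_append]; exact hg)
    (fun v hv => by
      let z : pSub.ker := ⟨liftGen 5, pSub_z⟩
      let c : Fin 275 → ℕ := fun q => kAt ((act (evalW gen (wordA ++ wordB)))⁻¹ q : Fin 275)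
      have hvk : ∀ q, v q = z ^ c q := by
        intro q
        set j := (act (evalW gen (wordA ++ wordB)))⁻¹ q with hj
        have hq : act (evalW gen (wordA ++ wordB)) j = q := by
          rw [hj, ← Equiv.Perm.mul_apply, mul_inv_cancel, Equiv.Perm.one_apply]
        have h1 := (track_spec _ hab j).2
        have h2 := (track_spec _ hba j).2
        rw [← hg, hq] at h2
        rw [hq] at h1
        have hd : (v q : subCover) * (evalW bigGen (wordB ++ wordA)).1.left q =
            (evalW bigGen (wordA ++ wordB)).1.left q := by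
          rw [hv q, ← evalW_append, ← evalW_append]
          rw [Subgroup.coe_mul, SemidirectProduct.mul_left, Pi.mul_apply, indAct_apply, Subgroup.coe_inv,
            SemidirectProduct.inv_left, indAct_apply, Pi.inv_apply, map_inv act, inv_inv]
          rw [show (evalW bigGen (wordA ++ wordB)).1.right = evalW gen (wordA ++ wordB) from
            indProj_word _ hab, show (evalW bigGen (wordB ++ wordA)).1.right = evalW gen (wordB ++ wordA) from
            indProj_word _ hba, ← hg, ← Equiv.Perm.mul_apply, mul_inv_cancel, Equiv.Perm.one_apply,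
            inv_mul_cancel_right]
        obtain ⟨n, hn⟩ : ∃ n : ℤ, liftGen 5 ^ n = (v q : subCover) :=
          Subgroup.mem_zpowers_iff.mp ((SetLike.ext_iff.mp ker_pSub.2 _).mp (v q).2)
        set y : Fin 378 := fibre ((evalW bigGen (wordB ++ wordA)).1.left q) 0
        have hzk : fibre (liftGen 5 ^ kAt j) y = fibre (v q : subCover) y := by
          apply Fin.ext
          have e := appW_spec coded_fibre (List.replicate (kAt j) 5)
            (fun s hs => by rw [List.eq_of_mem_replicate hs]; norm_num) y
          rw [evalW_replicate] at e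
          rw [e, show (y : ℕ) = _ from h2,
            Nat.eq_of_beq_eq_true (allBelow_eq_true.mp hk j j.2), ← h1, ← hd, map_mul]
          rfl
        refine Subtype.ext ?_
        show (v q : subCover) = ((z ^ c q : pSub.ker) : subCover)
        rw [Subgroup.coe_pow, ← hn]
        show liftGen 5 ^ n = liftGen 5 ^ kAt j
        by_contra hne
        have hd' : (liftGen 5 ^ kAt j)⁻¹ * liftGen 5 ^ n ≠ 1 := fun h =>
          hne (inv_mul_eq_one.mp h).symm
        have hfix : fibre ((liftGen 5 ^ kAt j)⁻¹ * liftGen 5 ^ n) y = y := by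
          rw [map_mul, map_inv, Equiv.Perm.mul_apply, Equiv.Perm.inv_eq_iff_eq, hzk, hn]
        have hmem : (liftGen 5 ^ kAt j)⁻¹ * liftGen 5 ^ n ∈ Subgroup.zpowers (liftGen 5) :=
          mul_mem (inv_mem (Subgroup.npow_mem_zpowers _ _)) (Subgroup.zpow_mem_zpowers _ _)
        have hgen : liftGen 5 ∈ Subgroup.zpowers ((liftGen 5 ^ kAt j)⁻¹ * liftGen 5 ^ n) := by
          have hle := Subgroup.zpowers_le.mpr hmem
          have heq := Subgroup.eq_of_le_of_card_ge hle (by
            rw [Nat.card_zpowers, Nat.card_zpowers, z_facts.2.1]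
            have hdvd : orderOf ((liftGen 5 ^ kAt j)⁻¹ * liftGen 5 ^ n) ∣ 3 := by
              have := Subgroup.card_dvd_of_le hle
              rwa [Nat.card_zpowers, Nat.card_zpowers, z_facts.2.1] at this
            rcases (Nat.dvd_prime Nat.prime_three).mp hdvd with h | h
            · exact absurd (orderOf_eq_one_iff.mp h) hd'
            · omega)
          rw [heq]; exact Subgroup.mem_zpowers _
        obtain ⟨m, hm⟩ := hgen
        have hzfix : fibre (liftGen 5) y = y := by
          rw [← hm]
          simp only [map_zpow]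
          exact Equiv.Perm.zpow_apply_eq_self_of_apply_eq_self hfix m
        have h' := allBelow_eq_true.mp central_ok.2 y y.2
        simp only [Bool.and_eq_true, Bool.not_eq_true'] at h'
        have e := appW_spec coded_fibre [5] (by simp) y
        rw [show evalW liftGen [5] = liftGen 5 by simp [evalW], hzfix] at e
        have h2' := h'.2
        rw [← Bool.not_eq_true, Nat.beq_eq] at h2'
        exact h2' e.symm
      have hprod : ∀ l : List (Fin 275), (l.map v).prod = z ^ (l.map c).sum := by
        intro l
        induction l with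
        | nil => rfl
        | cons a l ih => rw [List.map_cons, List.prod_cons, hvk, ih, List.map_cons, List.sum_cons, pow_add]
      rw [hprod]
      intro h1
      have hz : orderOf z = 3 := by rw [← Subgroup.orderOf_coe]; exact z_facts.2.1
      have hdvd : 3 ∣ (Finset.univ.toList.map c).sum := hz ▸ orderOf_dvd_of_pow_eq_one h1
      have hcs : (Finset.univ.toList.map c).sum = ((List.range 275).map kAt).sum := by
        rw [Finset.sum_map_toList, Equiv.sum_comp ((act (evalW gen (wordA ++ wordB)))⁻¹ : Equiv.Perm (Fin 275))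
          (fun j : Fin 275 => kAt j), ← Finset.sum_range]
        rfl
      rw [hcs] at hdvd
      exact hsum (Nat.mod_eq_zero_of_dvd hdvd))
  exact ⟨Γ, i1, i2, σ, hst, ⟨mulEquivOfPrimeCardEq (p := 3) hcard (by simp)⟩⟩

end Cfsg.Agent.McL.Cover
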